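import Groth.Agent.PBasis.Field
import Mathlib.RingTheory.Nilpotent.GeometricallyReduced
import Mathlib.RingTheory.Smooth.Field
import Mathlib.RingTheory.Smooth.Kaehler
import Mathlib.RingTheory.Kaehler.JacobiZariski
import Mathlib.RingTheory.Kaehler.Polynomial
import Mathlib.Algebra.Field.Subfield.Basic
import Mathlib.Algebra.CharP.Algebra

/-!
# Separable field extensions: MacLane's criterion and differential criterion
-/

universe u

namespace Groth.Agent.FieldSep.MacLane

open TensorProduct

variable {k : Type u} [Field k]

/-- `p`-th powers of independent families stay independent. -/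
def PowIndep (p : ℕ) (k A : Type u) [Field k] [CommRing A] [Algebra k A] : Prop :=
  ∀ s : Finset A, LinearIndepOn k id (s : Set A) → LinearIndepOn k (· ^ p) (s : Set A)

/-- Geometrically reduced algebras satisfy the power criterion. -/
theorem powIndep_of_isGeometricallyReduced (p : ℕ) [hp : Fact p.Prime] [CharP k p] {A : Type u}
    [CommRing A] [Algebra k A] [Algebra.IsGeometricallyReduced k A] : PowIndep p k A := by
  have hpA : ExpChar k p := ExpChar.prime hp.out
  intro s hs
  rw [linearIndepOn_finset_iff]
  intro c hc i hi
  let Ω := AlgebraicClosure k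
  have hb : ∀ j : A, ∃ b : Ω, b ^ p = algebraMap k Ω (c j) := fun j =>
    IsAlgClosed.exists_pow_nat_eq _ hp.out.pos
  choose b hb using hb
  have hred : IsReduced (Ω ⊗[k] A) := (Algebra.isGeometricallyReduced_field_iff k A).mp ‹_›
  have hp0 : (p : Ω ⊗[k] A) = 0 := by
    rw [← map_natCast (algebraMap k (Ω ⊗[k] A)) p, CharP.cast_eq_zero, map_zero]
  have hsum : (∑ j ∈ s, b j ⊗ₜ[k] j) ^ p = 0 := by
    rcases subsingleton_or_nontrivial (Ω ⊗[k] A) with h | h
    · exact Subsingleton.elim _ _
    have : CharP (Ω ⊗[k] A) p := (CharP.charP_iff_prime_eq_zero hp.out).mpr hp0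
    rw [sum_pow_char]
    calc ∑ j ∈ s, (b j ⊗ₜ[k] j) ^ p = ∑ j ∈ s, (1 : Ω) ⊗ₜ[k] (c j • j ^ p) :=
          Finset.sum_congr rfl fun j _ => by
            rw [Algebra.TensorProduct.tmul_pow, hb, Algebra.algebraMap_eq_smul_one, smul_tmul]
      _ = 0 := by rw [← tmul_sum, hc, tmul_zero]
  have hzero : ∑ j ∈ s, b j ⊗ₜ[k] j = 0 := IsReduced.eq_zero _ ⟨p, hsum⟩
  have hb0 : b i = 0 := by
    classical
    obtain ⟨f, hf⟩ : ∃ f : A →ₗ[k] k, ∀ j ∈ s, f j = if j = i then 1 else 0 := by
      have hli : LinearIndependent k (fun j : (s : Set A) => (j : A)) := hs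
      obtain ⟨f, hf⟩ := LinearMap.exists_extend (K := k)
        ((Finsupp.lapply (⟨i, hi⟩ : (s : Set A))).comp hli.repr)
      refine ⟨f, fun j hj => ?_⟩
      have := DFunLike.congr_fun hf ⟨j, Submodule.subset_span ⟨⟨j, hj⟩, rfl⟩⟩
      simp only [LinearMap.comp_apply, Submodule.subtype_apply, Finsupp.lapply_apply] at this
      rw [this, hli.repr_eq_single ⟨j, hj⟩ _ rfl]
      simp [Finsupp.single_apply]
    have := congrArg ((TensorProduct.rid k Ω).toLinearMap ∘ₗ LinearMap.lTensor Ω f) hzero
    classical
    simp only [map_sum, LinearMap.comp_apply, LinearMap.lTensor_tmul, LinearEquiv.coe_coe,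
      TensorProduct.rid_tmul, map_zero] at this
    rw [Finset.sum_eq_single_of_mem i hi (fun j hj hji => by rw [hf j hj, if_neg hji, zero_smul]),
      hf i hi, if_pos rfl, one_smul] at this
    exact this
  have := hb i
  rw [hb0, zero_pow hp.out.ne_zero] at this
  exact (FaithfulSMul.algebraMap_eq_zero_iff k Ω).mp this.symm

/-- The power criterion implies geometric reducedness. -/
theorem isGeometricallyReduced_of_powIndep (p : ℕ) [hp : Fact p.Prime] [CharP k p] {A : Type u}
    [CommRing A] [Algebra k A] (H : PowIndep p k A) : Algebra.IsGeometricallyReduced k A := by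
  rw [Algebra.isGeometricallyReduced_field_iff]
  let Ω := AlgebraicClosure k
  have hp0 : (p : Ω ⊗[k] A) = 0 := by
    rw [← map_natCast (algebraMap k (Ω ⊗[k] A)) p, CharP.cast_eq_zero, map_zero]
  rcases subsingleton_or_nontrivial (Ω ⊗[k] A) with h | h
  · infer_instance
  have : CharP (Ω ⊗[k] A) p := (CharP.charP_iff_prime_eq_zero hp.out).mpr hp0
  have key : ∀ x : Ω ⊗[k] A, x ^ p = 0 → x = 0 := by
    intro x hx
    classical
    let bA := Module.Basis.ofVectorSpace k A
    let bT := bA.baseChange Ω
    have hxs := bT.linearCombination_repr x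
    rw [Finsupp.linearCombination_apply, Finsupp.sum] at hxs
    set c := bT.repr x with hc
    have hex : x = ∑ j ∈ c.support, c j ⊗ₜ[k] bA j := by
      conv_lhs => rw [← hxs]
      refine Finset.sum_congr rfl fun j _ => ?_
      rw [Module.Basis.baseChange_apply, TensorProduct.smul_tmul', smul_eq_mul, mul_one]
    rw [hex, sum_pow_char] at hx
    simp only [Algebra.TensorProduct.tmul_pow] at hx
    have hfin : LinearIndepOn k (fun a : A => a ^ p) ((c.support.image bA : Finset A) : Set A) := by
      refine H _ ?_
      rw [Finset.coe_image]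
      exact bA.linearIndependent.linearIndepOn_id.mono (Set.image_subset_range _ _)
    have hli : LinearIndependent k fun j : c.support => bA j ^ p :=
      hfin.linearIndependent.comp (fun j : c.support => ⟨bA j, Finset.mem_coe.mpr (Finset.mem_image_of_mem _ j.2)⟩)
        fun a b hab => Subtype.ext (bA.injective (congrArg Subtype.val hab))
    have hc0 : ∀ j ∈ c.support, c j ^ p = 0 := by
      let g : (c.support →₀ k) →ₗ[k] A := Finsupp.linearCombination k fun j : c.support => bA j ^ p
      let Φ : c.support →₀ Ω := Finsupp.equivFunOnFinite.symm fun j => c j ^ p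
      have hinj : Function.Injective (g.lTensor Ω) :=
        Module.Flat.lTensor_preserves_injective_linearMap g hli
      let y : Ω ⊗[k] (c.support →₀ k) := (finsuppScalarRight k k Ω c.support).symm Φ
      have hy : y = ∑ j : c.support, (c j ^ p) ⊗ₜ[k] Finsupp.single j (1 : k) := by
        rw [LinearEquiv.symm_apply_eq, map_sum]
        ext j
        simp [Φ, Finsupp.finsetSum_apply, finsuppScalarRight_apply_tmul, Finsupp.single_apply]
      have hy0 : y = 0 := hinj (by
        rw [map_zero, hy, map_sum, ← hx, ← Finset.sum_coe_sort c.support]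
        simp [g])
      intro j hj
      have hΦ : Φ = 0 := by rwa [LinearEquiv.map_eq_zero_iff] at hy0
      exact DFunLike.congr_fun hΦ ⟨j, hj⟩
    rw [hex]
    refine Finset.sum_eq_zero fun j hj => ?_
    rw [eq_zero_of_pow_eq_zero (hc0 j hj), zero_tmul]
  constructor
  intro x ⟨n, hn⟩
  have hn' : x ^ p ^ n = 0 := pow_eq_zero_of_le (Nat.lt_pow_self hp.out.one_lt).le hn
  clear hn
  induction n with
  | zero => rwa [pow_zero, pow_one] at hn'
  | succ n ih => exact ih (key _ (by rw [← pow_mul, ← pow_succ]; exact hn'))

/-- In characteristic zero every field extension is geometrically reduced. -/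
theorem isGeometricallyReduced_of_charZero [CharZero k] (K : Type u) [Field K] [Algebra k K] :
    Algebra.IsGeometricallyReduced k K := by
  rw [Algebra.isGeometricallyReduced_field_iff]
  let Ω := AlgebraicClosure k
  have : IsReduced (K ⊗[k] Ω) := by
    refine IsReduced.tensorProduct_of_flat_of_forall_fg fun B hB => ?_
    have : Algebra.IsIntegral k Ω := Algebra.IsAlgebraic.isIntegral
    have : Module.Finite k B := by
      obtain ⟨t, rfl⟩ := hB
      exact Algebra.finite_adjoin_of_finite_of_isIntegral t.finite_toSet fun x _ =>
        Algebra.IsIntegral.isIntegral x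
    have : IsField B := B.isField_of_algebraic
    let _ := this.toField
    have : Algebra.IsSeparable k B := inferInstance
    have := Algebra.FormallyEtale.of_isSeparable k B
    exact Algebra.FormallyUnramified.isReduced_of_field K (K ⊗[k] B)
  exact isReduced_of_injective (Algebra.TensorProduct.comm k Ω K).toRingEquiv.toRingHom
    (Algebra.TensorProduct.comm k Ω K).injective

section Smooth

variable {K : Type u} [Field K] [Algebra k K]

/-- Finitely generated separable extensions are formally smooth. -/
theorem formallySmooth_of_essFiniteType [Algebra.EssFiniteType k K]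
    [Algebra.IsGeometricallyReduced k K] : Algebra.FormallySmooth k K := by
  rcases (CharP.exists k) with ⟨q, hq⟩
  rcases CharP.char_is_prime_or_zero k q with hprime | rfl
  · have : Fact q.Prime := ⟨hprime⟩
    obtain ⟨s, hs, H⟩ :=
      exists_isTranscendenceBasis_and_isSeparable_of_linearIndepOn_pow_of_essFiniteType
        (k := k) (K := K) q hprime (powIndep_of_isGeometricallyReduced q)
    have : Algebra.IsSeparable
        (↥(IntermediateField.adjoin k (Set.range ((↑) : s → K)))) K := by
      convert! H <;> simp
    exact Algebra.FormallySmooth.of_algebraicIndependent_of_isSeparable hs.1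
  · have : CharZero k := CharP.charP_to_charZero k
    infer_instance

/-- Coordinates of the differential of a polynomial. -/
lemma repr_D {σ : Type u} {R S : Type u} [CommRing R] [CommRing S] [Algebra (MvPolynomial σ R) S]
    (f : MvPolynomial σ R) (j : σ) :
    ((KaehlerDifferential.mvPolynomialBasis R σ).baseChange S).repr
        (1 ⊗ₜ[MvPolynomial σ R] KaehlerDifferential.D R (MvPolynomial σ R) f) j =
      algebraMap (MvPolynomial σ R) S (MvPolynomial.pderiv j f) := by
  rw [Module.Basis.baseChange_repr_tmul, KaehlerDifferential.mvPolynomialBasis_repr_apply,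
    Algebra.algebraMap_eq_smul_one]

/-- Separable extensions are formally smooth. -/
theorem formallySmooth_of_isGeometricallyReduced [Algebra.IsGeometricallyReduced k K] :
    Algebra.FormallySmooth k K := by
  classical
  let P := MvPolynomial K k
  let _ : Algebra P K := (MvPolynomial.aeval (id : K → K)).toRingHom.toAlgebra
  have : IsScalarTower k P K := .of_algebraMap_eq fun r => (AlgHom.commutes _ r).symm
  have hsurj : Function.Surjective (algebraMap P K) := fun x =>
    ⟨MvPolynomial.X x, MvPolynomial.aeval_X _ x⟩
  suffices Function.Injective (KaehlerDifferential.kerCotangentToTensor k P K) by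
    exact ⟨inferInstance, (Algebra.FormallySmooth.kerCotangentToTensor_injective_iff hsurj).mp this⟩
  rw [injective_iff_map_eq_zero]
  intro z hz
  obtain ⟨⟨f, hf⟩, rfl⟩ := Ideal.toCotangent_surjective _ z
  rw [KaehlerDifferential.kerCotangentToTensor_toCotangent] at hz
  let L : IntermediateField k K := IntermediateField.adjoin k (f.vars : Set K)
  have : Algebra.EssFiniteType k L :=
    IntermediateField.essFiniteType_iff.mpr (IntermediateField.fg_adjoin_finset f.vars)
  have : Algebra.IsGeometricallyReduced k L :=
    Algebra.IsGeometricallyReduced.of_injective L.val L.val.injective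
  have hL : Algebra.FormallySmooth k L := formallySmooth_of_essFiniteType
  let Q := MvPolynomial L k
  let _ : Algebra Q L := (MvPolynomial.aeval (id : L → L)).toRingHom.toAlgebra
  have : IsScalarTower k Q L := .of_algebraMap_eq fun r => (AlgHom.commutes _ r).symm
  have hsurjQ : Function.Surjective (algebraMap Q L) := fun x =>
    ⟨MvPolynomial.X x, MvPolynomial.aeval_X _ x⟩
  obtain ⟨g, hg⟩ : ∃ g : Q, MvPolynomial.rename (Subtype.val : L → K) g = f :=
    MvPolynomial.exists_rename_eq_of_vars_subset_range f Subtype.val Subtype.val_injective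
      (by rw [Subtype.range_coe]; exact IntermediateField.subset_adjoin k _)
  let ρ : Q →ₐ[k] P := MvPolynomial.rename (Subtype.val : L → K)
  have hcomm : ∀ q : Q, algebraMap P K (ρ q) = (algebraMap Q L q : K) := fun q => by
    show MvPolynomial.aeval id (MvPolynomial.rename Subtype.val q) = L.val (MvPolynomial.aeval id q)
    rw [MvPolynomial.aeval_rename, MvPolynomial.comp_aeval_apply]
    rfl
  have hgker : g ∈ RingHom.ker (algebraMap Q L) := by
    rw [RingHom.mem_ker]
    apply Subtype.ext
    rw [← hcomm]
    show algebraMap P K (MvPolynomial.rename _ g) = _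
    rw [hg]
    exact RingHom.mem_ker.mp hf
  have hdg : KaehlerDifferential.kerCotangentToTensor k Q L (Ideal.toCotangent _ ⟨g, hgker⟩) = 0 := by
    rw [KaehlerDifferential.kerCotangentToTensor_toCotangent]
    refine ((KaehlerDifferential.mvPolynomialBasis k L).baseChange L).repr.injective ?_
    refine Finsupp.ext fun j => ?_
    rw [map_zero, Finsupp.zero_apply]
    refine (repr_D (S := L) g j).trans ?_
    have hj : algebraMap P K (MvPolynomial.pderiv (j : K) f) = 0 :=
      (repr_D (S := K) f (j : K)).symm.trans (by rw [show (1 : K) ⊗ₜ[P] KaehlerDifferential.D k P f = 0 from hz]; simp)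
    rw [← hg, MvPolynomial.pderiv_rename Subtype.val_injective] at hj
    apply Subtype.ext
    exact (hcomm _).symm.trans hj
  have hinjQ := (Algebra.FormallySmooth.kerCotangentToTensor_injective_iff (R := k) (P := Q) hsurjQ).mpr
    hL.subsingleton_h1Cotangent
  have hg2 : g ∈ RingHom.ker (algebraMap Q L) ^ 2 :=
    (Ideal.toCotangent_eq_zero _ ⟨g, hgker⟩).mp (hinjQ (hdg.trans (map_zero _).symm))
  rw [Ideal.toCotangent_eq_zero]
  show f ∈ RingHom.ker (algebraMap P K) ^ 2
  rw [← hg]
  have hmap : (RingHom.ker (algebraMap Q L)).map ρ ≤ RingHom.ker (algebraMap P K) :=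
    Ideal.map_le_iff_le_comap.mpr fun q hq => by
      rw [Ideal.mem_comap, RingHom.mem_ker, hcomm, RingHom.mem_ker.mp hq, ZeroMemClass.coe_zero]
  have := Ideal.mem_map_of_mem ρ hg2
  rw [Ideal.map_pow] at this
  exact Ideal.pow_right_mono hmap 2 this

/-- A formally smooth extension has injective absolute differential base change. -/
theorem injective_of_formallySmooth [Algebra.FormallySmooth k K] :
    Function.Injective (KaehlerDifferential.mapBaseChange ℤ k K) := by
  rw [injective_iff_map_eq_zero]
  intro x hx
  obtain ⟨x, rfl⟩ := (Algebra.H1Cotangent.exact_δ_mapBaseChange ℤ k K x).mp hx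
  rw [Subsingleton.elim x 0, map_zero]

/-- Kernel of the absolute differential in characteristic `p`. -/
theorem exists_pow_of_D_eq_zero (p : ℕ) [hp : Fact p.Prime] [CharP k p] {a : k}
    (ha : KaehlerDifferential.D ℤ k a = 0) : ∃ b : k, b ^ p = a := by
  let k₀ := (⊥ : Subfield k)
  have h1 : (KaehlerDifferential.D k₀ k) a = 0 := by
    have := congrArg (KaehlerDifferential.map ℤ k₀ k k) ha
    rwa [KaehlerDifferential.map_D, map_zero, Algebra.algebraMap_self, RingHom.id_apply] at this
  rw [Groth.Agent.PBasis.Field.D_eq_zero_iff p] at h1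
  have hle : ∀ y ∈ Groth.Agent.PBasis.Field.pField p k₀ k, y ∈ (frobenius k p).fieldRange := by
    intro y hy
    change y ∈ EGA41.pPowerSubalgebra p k₀ k at hy
    induction hy using Algebra.adjoin_induction with
    | mem z hz => obtain ⟨w, rfl⟩ := hz; exact ⟨w, rfl⟩
    | algebraMap r => exact (bot_le : (⊥ : Subfield k) ≤ (frobenius k p).fieldRange) r.2
    | add a b _ _ ha hb => exact add_mem ha hb
    | mul a b _ _ ha hb => exact mul_mem ha hb
  obtain ⟨b, hb⟩ := hle a h1
  exact ⟨b, hb⟩

/-- Injective differential base change gives the power criterion. -/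
theorem powIndep_of_injective (p : ℕ) [hp : Fact p.Prime] [CharP k p]
    (hinj : Function.Injective (KaehlerDifferential.mapBaseChange ℤ k K)) : PowIndep p k K := by
  classical
  have : CharP K p := charP_of_injective_algebraMap (algebraMap k K).injective p
  intro s
  induction s using Finset.strongInduction with
  | H s ih =>
    intro hs
    rw [linearIndepOn_finset_iff]
    intro c hc
    by_contra hne
    push Not at hne
    obtain ⟨a, ha, hca⟩ := hne
    let e : K → k := fun j => (c a)⁻¹ * c j
    have he : ∑ j ∈ s, e j • j ^ p = 0 := by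
      simp only [e, mul_smul, ← Finset.smul_sum, hc, smul_zero]
    have hea : e a = 1 := inv_mul_cancel₀ hca
    let t : K ⊗[k] Ω[k⁄ℤ] := ∑ j ∈ s, (j ^ p) ⊗ₜ[k] KaehlerDifferential.D ℤ k (e j)
    have ht : t = 0 := by
      refine hinj ?_
      rw [map_zero, map_sum]
      have h := congrArg (KaehlerDifferential.D ℤ K) he
      rw [map_zero, map_sum] at h
      rw [← h]
      refine Finset.sum_congr rfl fun j _ => ?_
      rw [KaehlerDifferential.mapBaseChange_tmul, KaehlerDifferential.map_D, Algebra.smul_def (e j),
        Derivation.leibniz, Groth.Agent.PBasis.Basic.derivation_pow p, smul_zero, zero_add]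
    have hzero : ∀ j ∈ s, KaehlerDifferential.D ℤ k (e j) = 0 := by
      intro j hj
      rcases eq_or_ne j a with rfl | hja
      · rw [hea, Derivation.map_one_eq_zero]
      by_contra hne
      obtain ⟨ψ, hψ⟩ := Module.Projective.exists_dual_ne_zero k hne
      have h := congrArg ((TensorProduct.rid k K).toLinearMap ∘ₗ LinearMap.lTensor K ψ) ht
      simp only [t, map_sum, LinearMap.comp_apply, LinearMap.lTensor_tmul, LinearEquiv.coe_coe,
        TensorProduct.rid_tmul, map_zero] at h
      rw [← Finset.sum_erase s (a := a) (by rw [hea, Derivation.map_one_eq_zero, map_zero, zero_smul])] at h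
      have hlt : s.erase a ⊂ s := Finset.erase_ssubset ha
      have hind := ih _ hlt (hs.mono (Finset.coe_subset.mpr (Finset.erase_subset _ _)))
      rw [linearIndepOn_finset_iff] at hind
      exact hψ (hind (fun j => ψ (KaehlerDifferential.D ℤ k (e j))) h j (Finset.mem_erase.mpr ⟨hja, hj⟩))
    have hroot : ∀ j ∈ s, ∃ b : k, b ^ p = e j := fun j hj => exists_pow_of_D_eq_zero p (hzero j hj)
    choose! b hb using hroot
    have hpow : (∑ j ∈ s, b j • j) ^ p = 0 := by
      rw [sum_pow_char, ← he]
      exact Finset.sum_congr rfl fun j hj => by rw [smul_pow, hb j hj]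
    have := (linearIndepOn_finset_iff.mp hs) b (eq_zero_of_pow_eq_zero hpow) a ha
    have hba := hb a ha
    rw [this, zero_pow hp.out.ne_zero, hea] at hba
    exact zero_ne_one hba

theorem isGeometricallyReduced_of_injective
    (hinj : Function.Injective (KaehlerDifferential.mapBaseChange ℤ k K)) :
    Algebra.IsGeometricallyReduced k K := by
  rcases (CharP.exists k) with ⟨q, hq⟩
  rcases CharP.char_is_prime_or_zero k q with hprime | rfl
  · have : Fact q.Prime := ⟨hprime⟩
    exact isGeometricallyReduced_of_powIndep q (powIndep_of_injective q hinj)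
  · have : CharZero k := CharP.charP_to_charZero k
    exact isGeometricallyReduced_of_charZero K

variable (k K) in
theorem formallySmooth_iff : Algebra.FormallySmooth k K ↔ Algebra.IsGeometricallyReduced k K :=
  ⟨fun _ => isGeometricallyReduced_of_injective injective_of_formallySmooth,
    fun _ => formallySmooth_of_isGeometricallyReduced⟩

variable (k K) in
theorem isGeometricallyReduced_iff_injective :
    Algebra.IsGeometricallyReduced k K ↔
      Function.Injective (KaehlerDifferential.mapBaseChange ℤ k K) :=
  ⟨fun h => by
    have := (formallySmooth_iff k K).mpr h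
    exact injective_of_formallySmooth, isGeometricallyReduced_of_injective⟩

end Smooth

end Groth.Agent.FieldSep.MacLane
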