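import Groth.Prelude.Def_EGA41
import Mathlib.RingTheory.Kaehler.Basic
import Mathlib.LinearAlgebra.TensorProduct.RightExactness
import Mathlib.LinearAlgebra.Dual.Lemmas

/-!
# Imperfection modules along towers, derivation extension
-/

universe u

namespace Groth.Agent.FieldSep.Imperfection

open TensorProduct KaehlerDifferential

section Tower

variable (R A B C : Type*) [CommRing R] [CommRing A] [CommRing B] [CommRing C]
  [Algebra R A] [Algebra R B] [Algebra R C] [Algebra A B] [Algebra A C] [Algebra B C]
  [IsScalarTower R A B] [IsScalarTower R A C] [IsScalarTower R B C] [IsScalarTower A B C]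

theorem exact_baseChange :
    Function.Exact ((mapBaseChange R A B).baseChange C) ((map R A B B).baseChange C) :=
  lTensor_exact C (exact_mapBaseChange_map R A B) (map_surjective R A B)

theorem mapBaseChange_comp :
    (mapBaseChange R B C).comp ((mapBaseChange R A B).baseChange C) =
      (mapBaseChange R A C).comp
        (AlgebraTensorModule.cancelBaseChange A B C C Ω[A⁄R]).toLinearMap := by
  apply TensorProduct.AlgebraTensorModule.ext
  intro c t
  induction t with
  | zero => simp
  | add a b ha hb => simp only [tmul_add, map_add, ha, hb]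
  | tmul b ω =>
    have h1 : ∀ ω : Ω[A⁄R], map R R B C (map R R A B ω) = map R R A C ω := by
      intro ω
      have hω : ω ∈ Submodule.span A (Set.range (D R A)) := by rw [span_range_derivation]; trivial
      induction hω using Submodule.span_induction with
      | mem y hy => obtain ⟨a, rfl⟩ := hy; simp [← IsScalarTower.algebraMap_apply]
      | zero => simp
      | add a b _ _ ha hb => simp only [map_add, ha, hb]
      | smul r a _ ha => simp only [map_smul, LinearMap.map_smul_of_tower, ha]
    simp only [LinearMap.comp_apply, LinearMap.baseChange_tmul, mapBaseChange_tmul, map_smul, h1,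
      LinearEquiv.coe_coe, AlgebraTensorModule.cancelBaseChange_tmul]
    rw [← algebraMap_smul C b, smul_smul, Algebra.smul_def b c, mul_comm]

theorem map_comp_mapBaseChange :
    ((map R A C C).restrictScalars C).comp (mapBaseChange R B C) =
      (mapBaseChange A B C).comp ((map R A B B).baseChange C) := by
  apply TensorProduct.AlgebraTensorModule.ext
  intro c ω
  have h1 : ∀ ω : Ω[B⁄R], map R A C C (map R R B C ω) = map A A B C (map R A B B ω) := by
    intro ω
    have hω : ω ∈ Submodule.span B (Set.range (D R B)) := by rw [span_range_derivation]; trivial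
    induction hω using Submodule.span_induction with
    | mem y hy => obtain ⟨a, rfl⟩ := hy; simp
    | zero => simp
    | add a b _ _ ha hb => simp only [map_add, ha, hb]
    | smul r a _ ha => simp only [map_smul, LinearMap.map_smul_of_tower, ha]
  simp only [LinearMap.comp_apply, LinearMap.baseChange_tmul, mapBaseChange_tmul, map_smul,
    LinearMap.restrictScalars_apply, h1]

/-- Imperfection modules map onto each other along the base. -/
theorem exists_lift {ω : C ⊗[B] Ω[B⁄A]} (hω : mapBaseChange A B C ω = 0) :
    ∃ η, mapBaseChange R B C η = 0 ∧ (map R A B B).baseChange C η = ω := by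
  obtain ⟨η₀, hη₀⟩ := LinearMap.lTensor_surjective C (map_surjective R A B) ω
  have hη₀' : (map R A B B).baseChange C η₀ = ω := hη₀
  have h1 : map R A C C (mapBaseChange R B C η₀) = 0 := by
    have := DFunLike.congr_fun (map_comp_mapBaseChange R A B C) η₀
    simp only [LinearMap.comp_apply, LinearMap.restrictScalars_apply, hη₀', hω] at this
    exact this
  obtain ⟨s, hs⟩ := (exact_mapBaseChange_map R A C _).mp h1
  let t := (AlgebraTensorModule.cancelBaseChange A B C C Ω[A⁄R]).symm s
  refine ⟨η₀ - (mapBaseChange R A B).baseChange C t, ?_, ?_⟩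
  · have := DFunLike.congr_fun (mapBaseChange_comp R A B C) t
    simp only [LinearMap.comp_apply, LinearEquiv.coe_coe, t, LinearEquiv.apply_symm_apply, hs] at this
    rw [map_sub, this, sub_self]
  · rw [map_sub, (exact_baseChange R A B C).apply_apply_eq_zero, hη₀', sub_zero]

/-- Injectivity descends along the base. -/
theorem injective_of_injective (h : Function.Injective (mapBaseChange A B C))
    (h' : Function.Injective (mapBaseChange R A C)) :
    Function.Injective (mapBaseChange R B C) := by
  rw [injective_iff_map_eq_zero]
  intro t ht
  have h1 : (map R A B B).baseChange C t = 0 := by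
    refine h ?_
    have := DFunLike.congr_fun (map_comp_mapBaseChange R A B C) t
    simp only [LinearMap.comp_apply, LinearMap.restrictScalars_apply, ht, map_zero] at this
    rw [map_zero]
    exact this.symm
  obtain ⟨s, rfl⟩ := (exact_baseChange R A B C t).mp h1
  have h2 := DFunLike.congr_fun (mapBaseChange_comp R A B C) s
  simp only [LinearMap.comp_apply, LinearEquiv.coe_coe, ht] at h2
  have h3 : (AlgebraTensorModule.cancelBaseChange A B C C Ω[A⁄R]) s = 0 :=
    h' (h2.symm.trans (map_zero _).symm)
  rw [LinearEquiv.map_eq_zero_iff] at h3
  rw [h3, map_zero]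

end Tower

/-- If all derivations into one nonzero vector space extend, the imperfection module vanishes. -/
theorem injective_of_extends {R k K : Type*} [CommRing R] [Field k] [Field K] [Algebra R k]
    [Algebra R K] [Algebra k K] [IsScalarTower R k K] {L : Type*} [AddCommGroup L] [Module K L]
    [Module k L] [IsScalarTower k K L] [Module R L] [IsScalarTower R K L] [IsScalarTower R k L] [Nontrivial L]
    (h : ∀ D : Derivation R k L, ∃ D' : Derivation R K L, ∀ a : k, D' (algebraMap k K a) = D a) :
    Function.Injective (mapBaseChange R k K) := by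
  rw [injective_iff_map_eq_zero]
  intro t ht
  by_contra hne
  obtain ⟨φ, hφ⟩ := Module.Projective.exists_dual_ne_zero K hne
  obtain ⟨l₀, hl₀⟩ := exists_ne (0 : L)
  let ψ : K ⊗[k] Ω[k⁄R] →ₗ[K] L := φ.smulRight l₀
  let g : Ω[k⁄R] →ₗ[k] L := (ψ.restrictScalars k).comp ((TensorProduct.mk k K Ω[k⁄R]) 1)
  obtain ⟨D', hD'⟩ := h (g.compDer (D R k))
  have hcomp : D'.liftKaehlerDifferential.comp (mapBaseChange R k K) = ψ := by
    apply TensorProduct.AlgebraTensorModule.ext
    intro c ω
    have key : D'.liftKaehlerDifferential (map R R k K ω) = ψ (1 ⊗ₜ ω) := by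
      have hω : ω ∈ Submodule.span k (Set.range (D R k)) := by rw [span_range_derivation]; trivial
      induction hω using Submodule.span_induction with
      | mem y hy =>
        obtain ⟨a, rfl⟩ := hy
        rw [map_D, Derivation.liftKaehlerDifferential_comp_D, hD']
        rfl
      | zero => simp
      | add a b _ _ ha hb => simp only [map_add, tmul_add, ha, hb]
      | smul r a _ ha => simp only [tmul_smul, LinearMap.map_smul_of_tower, map_smul, ha]
    rw [LinearMap.comp_apply, mapBaseChange_tmul, map_smul, key, ← map_smul, smul_tmul',
      smul_eq_mul, mul_one]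
  have := DFunLike.congr_fun hcomp t
  rw [LinearMap.comp_apply, ht, map_zero] at this
  exact smul_ne_zero hφ hl₀ this.symm

/-- An injective base change of differentials of fields allows to extend derivations. -/
theorem exists_extension {R k K : Type*} [CommRing R] [Field k] [Field K] [Algebra R k]
    [Algebra R K] [Algebra k K] [IsScalarTower R k K] {L : Type*} [AddCommGroup L] [Module K L]
    [Module k L] [IsScalarTower k K L] [Module R L] [IsScalarTower R K L] [IsScalarTower R k L]
    (h : Function.Injective (mapBaseChange R k K)) (D₀ : Derivation R k L) :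
    ∃ D' : Derivation R K L, ∀ a : k, D' (algebraMap k K a) = D₀ a := by
  obtain ⟨r, hr⟩ := (mapBaseChange R k K).exists_leftInverse_of_injective (LinearMap.ker_eq_bot.mpr h)
  let ψ : K ⊗[k] Ω[k⁄R] →ₗ[K] L := LinearMap.liftBaseChange K D₀.liftKaehlerDifferential
  refine ⟨(ψ.comp r).compDer (D R K), fun a => ?_⟩
  have h1 : mapBaseChange R k K (1 ⊗ₜ D R k a) = D R K (algebraMap k K a) := by simp
  have h2 := DFunLike.congr_fun hr (1 ⊗ₜ D R k a)
  show ψ (r (D R K (algebraMap k K a))) = D₀ a
  rw [← h1, show r (mapBaseChange R k K _) = _ from h2]
  simp [ψ]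

end Groth.Agent.FieldSep.Imperfection
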