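import Groth.Agent.FieldSep.MacLane
import Groth.Agent.FieldSep.Imperfection
import Mathlib.Algebra.Module.LinearMap.Index
import Mathlib.FieldTheory.FinTrdeg
import Mathlib.FieldTheory.Finite.Basic

/-!
# The Cartier equality
-/

universe u

namespace Groth.Agent.FieldSep.Cartier

open TensorProduct KaehlerDifferential

section Fred

variable {k : Type*} [Field k] {V W X : Type*} [AddCommGroup V] [Module k V] [AddCommGroup W]
  [Module k W] [AddCommGroup X] [Module k X]

/-- `f` has finite dimensional kernel and cokernel, and index `n`. -/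
structure Fred (f : V →ₗ[k] W) (n : ℤ) : Prop where
  finite_ker : FiniteDimensional k f.ker
  finite_coker : FiniteDimensional k (W ⧸ f.range)
  index_eq : f.index = n

lemma fred_of_bijective {f : V →ₗ[k] W} (h : Function.Bijective f) : Fred f 0 where
  finite_ker := by rw [LinearMap.ker_eq_bot.mpr h.1]; infer_instance
  finite_coker := by
    rw [LinearMap.range_eq_top.mpr h.2]
    infer_instance
  index_eq := by
    rw [show f = (LinearEquiv.ofBijective f h).toLinearMap from rfl, LinearEquiv.index_eq_zero]

lemma Fred.comp {f : V →ₗ[k] W} {g : W →ₗ[k] X} {n m : ℤ} (hf : Fred f n) (hg : Fred g m) :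
    Fred (g ∘ₗ f) (m + n) := by
  have := hf.finite_ker
  have := hf.finite_coker
  have := hg.finite_ker
  have := hg.finite_coker
  have h1 : FiniteDimensional k (g ∘ₗ f).ker := by rw [LinearMap.ker_comp]; infer_instance
  have h2 : FiniteDimensional k (X ⧸ (g ∘ₗ f).range) := by rw [LinearMap.range_comp]; infer_instance
  exact ⟨h1, h2, by rw [LinearMap.index_comp, hf.index_eq, hg.index_eq]⟩

variable (L : Type*) [Field L] [Algebra k L]

/-- Extension of scalars preserves kernel and cokernel dimensions. -/
lemma Fred.baseChange {f : V →ₗ[k] W} {n : ℤ} (hf : Fred f n) : Fred (f.baseChange L) n := by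
  have := hf.finite_ker
  have := hf.finite_coker
  have hinj : Function.Injective (f.ker.subtype.baseChange L) :=
    Module.Flat.lTensor_preserves_injective_linearMap _ f.ker.injective_subtype
  have hex : Function.Exact (f.ker.subtype.baseChange L) (f.baseChange L) :=
    Module.Flat.lTensor_exact L (LinearMap.exact_subtype_ker_map f)
  have hq : Function.Exact (f.baseChange L) (f.range.mkQ.baseChange L) :=
    lTensor_exact L (LinearMap.exact_map_mkQ_range f) (Submodule.mkQ_surjective _)
  have hs : Function.Surjective (f.range.mkQ.baseChange L) :=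
    LinearMap.lTensor_surjective L (Submodule.mkQ_surjective _)
  let e1 : (L ⊗[k] f.ker) ≃ₗ[L] (f.baseChange L).ker :=
    (LinearEquiv.ofInjective _ hinj).trans (LinearEquiv.ofEq _ _ hex.linearMap_ker_eq.symm)
  let e2 : ((L ⊗[k] W) ⧸ (f.baseChange L).range) ≃ₗ[L] L ⊗[k] (W ⧸ f.range) :=
    (Submodule.quotEquivOfEq _ _ hq.linearMap_ker_eq.symm).trans
      (LinearMap.quotKerEquivOfSurjective _ hs)
  refine ⟨Module.Finite.equiv e1, Module.Finite.equiv e2.symm, ?_⟩
  rw [← hf.index_eq, LinearMap.index_eq_finrank_sub, LinearMap.index_eq_finrank_sub,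
    ← e1.finrank_eq, e2.finrank_eq, Module.finrank_baseChange, Module.finrank_baseChange]

end Fred

/-- Every field over a perfect field is formally smooth. -/
theorem formallySmooth_of_perfectField (k₀ L : Type u) [Field k₀] [Field L] [Algebra k₀ L]
    [PerfectField k₀] : Algebra.FormallySmooth k₀ L := by
  rw [MacLane.formallySmooth_iff]
  obtain ⟨p, hp⟩ := ExpChar.exists k₀
  cases hp with
  | zero => exact MacLane.isGeometricallyReduced_of_charZero L
  | prime hp =>
    have : Fact p.Prime := ⟨hp⟩
    refine MacLane.isGeometricallyReduced_of_powIndep p ?_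
    intro s hs
    have : CharP L p := charP_of_injective_algebraMap (algebraMap k₀ L).injective p
    have : ExpChar L p := ExpChar.prime hp
    rw [linearIndepOn_finset_iff] at hs ⊢
    intro c hc i hi
    choose d hd using fun j : L => surjective_frobenius k₀ p (c j)
    have h0 : (∑ j ∈ s, d j • j) ^ p = 0 := by
      rw [sum_pow_char, ← hc]
      refine Finset.sum_congr rfl fun j _ => ?_
      rw [smul_pow, ← frobenius_def, hd]
    have := hs d (by simpa using (pow_eq_zero_iff hp.ne_zero).mp h0) i hi
    rw [← hd i, this, map_zero]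

section Step

variable (k₀ M L : Type u) [Field k₀] [Field M] [Field L] [Algebra k₀ M] [Algebra k₀ L] [Algebra M L]
  [IsScalarTower k₀ M L] [PerfectField k₀]

open Polynomial

private lemma fred_polynomial [Algebra M[X] L] [IsScalarTower M M[X] L] [IsScalarTower k₀ M[X] L] :
    Fred ((mapBaseChange k₀ M M[X]).baseChange L) (-1) := by
  set f := mapBaseChange k₀ M M[X] with hf
  have hex := exact_mapBaseChange_map k₀ M M[X]
  have hsurj := map_surjective k₀ M M[X]
  have hfinj : Function.Injective f := by
    have : Algebra.FormallySmooth M M[X] := inferInstance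
    rw [← LinearMap.ker_eq_bot, (Algebra.H1Cotangent.exact_δ_mapBaseChange k₀ M M[X]).linearMap_ker_eq,
      LinearMap.range_eq_bot]
    exact Subsingleton.elim _ _
  have : Module.Projective M[X] Ω[M[X]⁄M] := Module.Projective.of_equiv (polynomialEquiv M).symm
  obtain ⟨s, hs⟩ := Module.projective_lifting_property (map k₀ M M[X] M[X]) LinearMap.id hsurj
  have htfae : (Function.Injective f ∧ ∃ s, (map k₀ M M[X] M[X]) ∘ₗ s = LinearMap.id) ↔
      (Function.Surjective (map k₀ M M[X] M[X]) ∧ ∃ l, l ∘ₗ f = LinearMap.id) :=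
    hex.split_tfae'.out 0 1
  obtain ⟨l, hl⟩ := (htfae.mp ⟨hfinj, s, hs⟩).2
  have hinj : Function.Injective (f.baseChange L) := by
    refine Function.LeftInverse.injective (g := l.baseChange L) fun x => ?_
    rw [← LinearMap.comp_apply, ← LinearMap.baseChange_comp, hl, LinearMap.baseChange_id]
    rfl
  have hq : Function.Exact (f.baseChange L) ((map k₀ M M[X] M[X]).baseChange L) :=
    Imperfection.exact_baseChange k₀ M M[X] L
  have hs' : Function.Surjective ((map k₀ M M[X] M[X]).baseChange L) :=
    LinearMap.lTensor_surjective L hsurj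
  let e2 := ((Submodule.quotEquivOfEq _ _ hq.linearMap_ker_eq.symm).trans
      (LinearMap.quotKerEquivOfSurjective _ hs')).trans
      ((polynomialEquiv M).baseChange M[X] L _ _ ≪≫ₗ AlgebraTensorModule.rid M[X] L L)
  refine ⟨?_, Module.Finite.equiv e2.symm, ?_⟩
  · rw [LinearMap.ker_eq_bot.mpr hinj]; infer_instance
  · rw [LinearMap.index_of_injective hinj, e2.finrank_eq, Module.finrank_self]
    rfl

/-- A simple extension. -/
theorem fred_simple (x : L) (hx : IntermediateField.adjoin M {x} = ⊤) :
    ∃ d : ℕ, Algebra.trdeg M L = d ∧ Fred (mapBaseChange k₀ M L) (-d) := by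
  let : Algebra M[X] L := (aeval (R := M) x).toRingHom.toAlgebra
  have hal : ∀ q : M[X], algebraMap M[X] L q = aeval x q := fun _ => rfl
  have : IsScalarTower M M[X] L := IsScalarTower.of_algebraMap_eq fun m => by simp [hal]
  have : IsScalarTower k₀ M[X] L := IsScalarTower.of_algebraMap_eq fun m => by
    rw [IsScalarTower.algebraMap_apply k₀ M L, IsScalarTower.algebraMap_apply k₀ M M[X],
      ← IsScalarTower.algebraMap_apply M M[X] L]
  have hsplit : mapBaseChange k₀ M L = (mapBaseChange k₀ M[X] L) ∘ₗ
      ((mapBaseChange k₀ M M[X]).baseChange L) ∘ₗ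
      (AlgebraTensorModule.cancelBaseChange M M[X] L L Ω[M⁄k₀]).symm.toLinearMap := by
    rw [← LinearMap.comp_assoc, Imperfection.mapBaseChange_comp, LinearMap.comp_assoc,
      LinearEquiv.comp_symm, LinearMap.comp_id]
  have hfirst := (fred_of_bijective
    (AlgebraTensorModule.cancelBaseChange M M[X] L L Ω[M⁄k₀]).symm.bijective).comp
      (fred_polynomial k₀ M L)
  by_cases halg : IsAlgebraic M x
  · refine ⟨0, ?_, ?_⟩
    · have : Algebra.IsAlgebraic M (IntermediateField.adjoin M ({x} : Set L)) :=
        IntermediateField.isAlgebraic_adjoin_simple halg.isIntegral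
      have hL : Algebra.IsAlgebraic M L :=
        (IntermediateField.topEquiv.isAlgebraic_iff).mp (hx ▸ this)
      exact_mod_cast trdeg_eq_zero
    have hsurj : Function.Surjective (algebraMap M[X] L) := by
      intro y
      have hy : y ∈ (IntermediateField.adjoin M ({x} : Set L)).toSubalgebra := by
        rw [hx]; trivial
      rw [IntermediateField.adjoin_simple_toSubalgebra_of_isAlgebraic halg,
        Algebra.adjoin_singleton_eq_range_aeval] at hy
      exact hy
    set f := minpoly M x with hfdef
    have hker : RingHom.ker (algebraMap M[X] L) = Ideal.span {f} := minpoly.ker_aeval_eq_span_minpoly M x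
    have hex := exact_kerCotangentToTensor_mapBaseChange k₀ M[X] L hsurj
    let ω : L ⊗[M[X]] Ω[M[X]⁄k₀] := 1 ⊗ₜ D k₀ M[X] f
    have hkerω : (mapBaseChange k₀ M[X] L).ker = Submodule.span L {ω} := by
      refine le_antisymm (fun t ht => ?_) ?_
      · obtain ⟨c, rfl⟩ := (hex t).mp ht
        obtain ⟨⟨g, hg⟩, rfl⟩ := Ideal.toCotangent_surjective _ c
        have hg' : g ∈ Ideal.span {f} := hker ▸ hg
        obtain ⟨a, rfl⟩ := Ideal.mem_span_singleton'.mp hg'
        rw [kerCotangentToTensor_toCotangent, Derivation.leibniz, tmul_add, tmul_smul, tmul_smul,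
          ← algebraMap_smul L a, ← algebraMap_smul L f,
          show algebraMap M[X] L f = 0 from minpoly.aeval M x, zero_smul, add_zero]
        exact Submodule.smul_mem _ _ (Submodule.mem_span_singleton_self _)
      · rw [Submodule.span_singleton_le_iff_mem, LinearMap.mem_ker]
        exact (hex _).mpr ⟨Ideal.toCotangent _ ⟨f, hker ▸ Ideal.mem_span_singleton_self f⟩,
          kerCotangentToTensor_toCotangent ..⟩
    have hω : ω ≠ 0 := by
      intro h0
      have : Algebra.FormallySmooth k₀ L := formallySmooth_of_perfectField k₀ L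
      let π := (IsScalarTower.toAlgHom k₀ M[X] L).kerSquareLift
      have hπs : Function.Surjective π := Function.Surjective.of_comp
        (g := Ideal.Quotient.mk _) hsurj
      have hπn : IsNilpotent (RingHom.ker π.toRingHom) := ⟨2, by
        rw [show RingHom.ker π.toRingHom = _ from AlgHom.ker_kerSquareLift _,
          Ideal.cotangentIdeal_square]
        rfl⟩
      let g := Algebra.FormallySmooth.liftOfSurjective (AlgHom.id k₀ L) π hπs hπn
      obtain ⟨l, hl⟩ := (retractionKerCotangentToTensorEquivSection (R := k₀) (P := M[X]) (S := L)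
        hsurj).symm ⟨g, Algebra.FormallySmooth.comp_liftOfSurjective _ π hπs hπn⟩
      have h1 := DFunLike.congr_fun hl (Ideal.toCotangent _ ⟨f, hker ▸ Ideal.mem_span_singleton_self f⟩)
      rw [LinearMap.comp_apply, kerCotangentToTensor_toCotangent] at h1
      rw [show (1 : L) ⊗ₜ[M[X]] D k₀ M[X] f = 0 from h0, map_zero, LinearMap.id_apply, eq_comm,
        Ideal.toCotangent_eq_zero] at h1
      simp only [hker, Ideal.span_singleton_pow, Ideal.mem_span_singleton] at h1
      obtain ⟨a, ha⟩ := h1
      have hne := minpoly.ne_zero halg.isIntegral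
      have hdvd : f ^ 2 ∣ f := ⟨a, ha⟩
      have hdeg : (f ^ 2).natDegree ≤ f.natDegree := Polynomial.natDegree_le_of_dvd hdvd hne
      rw [Polynomial.natDegree_pow] at hdeg
      have hpos : 0 < f.natDegree := minpoly.natDegree_pos halg.isIntegral
      omega
    have hbs : Function.Surjective (mapBaseChange k₀ M[X] L) :=
      mapBaseChange_surjective k₀ M[X] L hsurj
    have h2 : Fred (mapBaseChange k₀ M[X] L) 1 := by
      refine ⟨by rw [hkerω]; infer_instance, ?_, ?_⟩
      · rw [LinearMap.range_eq_top.mpr hbs]; infer_instance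
      · rw [LinearMap.index_of_surjective hbs, hkerω, finrank_span_singleton hω]; rfl
    rw [hsplit]
    exact (hfirst.comp h2 : Fred _ (1 + (-1 + 0)))
  · have hinj : Function.Injective (algebraMap M[X] L) := transcendental_iff_injective.mp halg
    have : IsFractionRing M[X] L := by
      have : FaithfulSMul M[X] L := (faithfulSMul_iff_algebraMap_injective _ _).mpr hinj
      refine IsFractionRing.of_field M[X] L fun z => ?_
      have hz : z ∈ IntermediateField.adjoin M ({x} : Set L) := by rw [hx]; trivial
      obtain ⟨r, s, hrs⟩ := (IntermediateField.mem_adjoin_simple_iff M z).mp hz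
      exact ⟨r, s, hrs⟩
    refine ⟨1, ?_, ?_⟩
    · have : FaithfulSMul M[X] L := (faithfulSMul_iff_algebraMap_injective _ _).mpr hinj
      have : Algebra.IsAlgebraic M[X] L := IsLocalization.isAlgebraic L (nonZeroDivisors M[X])
      rw [← trdeg_add_eq M M[X] (A := L), trdeg_eq_zero (R := M[X]), add_zero,
        Polynomial.trdeg_of_isDomain, Nat.cast_one]
    have h2 : Fred (mapBaseChange k₀ M[X] L) 0 := by
      have : Algebra.FormallyEtale M[X] L :=
        Algebra.FormallyEtale.of_isLocalization (nonZeroDivisors M[X])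
      have heq : mapBaseChange k₀ M[X] L = (isBaseChange_of_formallyEtale k₀ M[X] L).equiv.toLinearMap := by
        apply TensorProduct.AlgebraTensorModule.ext
        intro c ω
        rw [mapBaseChange_tmul, LinearEquiv.coe_coe, IsBaseChange.equiv_tmul]
      rw [heq]
      exact fred_of_bijective (LinearEquiv.bijective _)
    rw [hsplit]
    exact (hfirst.comp h2 : Fred _ (0 + (-1 + 0)))

end Step

section Main

/-- The conclusion of the Cartier equality. -/
def Cart (R : Type*) (K L : Type u) [CommRing R] [Field K] [Field L] [Algebra R K] [Algebra R L] [Algebra K L]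
    [IsScalarTower R K L] : Prop :=
  ∃ d : ℕ, Algebra.trdeg K L = d ∧ Fred (mapBaseChange R K L) (-d)

theorem Cart.trans {R : Type*} {K M L : Type u} [CommRing R] [Field K] [Field M] [Field L] [Algebra R K] [Algebra R M]
    [Algebra R L] [Algebra K M] [Algebra K L] [Algebra M L] [IsScalarTower R K M]
    [IsScalarTower R K L] [IsScalarTower R M L] [IsScalarTower K M L]
    (h : Cart R K M) (h' : Cart R M L) : Cart R K L := by
  obtain ⟨d, hd, hf⟩ := h
  obtain ⟨d', hd', hf'⟩ := h'
  refine ⟨d + d', ?_, ?_⟩
  · rw [← trdeg_add_eq K M (A := L), hd, hd', Nat.cast_add]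
  have hsplit : mapBaseChange R K L = (mapBaseChange R M L) ∘ₗ
      ((mapBaseChange R K M).baseChange L) ∘ₗ
      (AlgebraTensorModule.cancelBaseChange K M L L Ω[K⁄R]).symm.toLinearMap := by
    rw [← LinearMap.comp_assoc, Imperfection.mapBaseChange_comp, LinearMap.comp_assoc,
      LinearEquiv.comp_symm, LinearMap.comp_id]
  have := ((fred_of_bijective
    (AlgebraTensorModule.cancelBaseChange K M L L Ω[K⁄R]).symm.bijective).comp (hf.baseChange L)).comp hf'
  rw [hsplit]
  convert this using 1
  push_cast; ring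

/-- **Cartier equality** over a perfect base field. -/
theorem cart_of_perfectField (k₀ K L : Type u) [Field k₀] [PerfectField k₀] [Field K] [Field L]
    [Algebra k₀ K] [Algebra k₀ L] [Algebra K L] [IsScalarTower k₀ K L] [Algebra.EssFiniteType K L] :
    Cart k₀ K L := by
  have htow : ∀ E : IntermediateField K L, IsScalarTower k₀ E L := fun E =>
    IsScalarTower.of_algebraMap_eq fun c => by
      rw [IsScalarTower.algebraMap_apply k₀ K L, IsScalarTower.algebraMap_apply k₀ K E,
        ← IsScalarTower.algebraMap_apply K E L]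
  suffices ∀ E : IntermediateField K L, E.FG → Cart k₀ K E by
    refine (this ⊤ (IntermediateField.fg_top K L)).trans
      (fred_simple k₀ (⊤ : IntermediateField K L) L 0 ?_)
    rw [IntermediateField.adjoin_simple_eq_bot_iff.mpr (zero_mem _), eq_top_iff]
    exact fun y _ => IntermediateField.mem_bot.mpr ⟨⟨y, trivial⟩, rfl⟩
  intro E hE
  refine IntermediateField.induction_on_adjoin_fg (fun E => Cart k₀ K E) ?_ ?_ E hE
  · refine fred_simple k₀ K (⊥ : IntermediateField K L) 0 ?_
    rw [IntermediateField.adjoin_simple_eq_bot_iff.mpr (zero_mem _), eq_top_iff]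
    rintro ⟨y, hy⟩ _
    obtain ⟨a, rfl⟩ := IntermediateField.mem_bot.mp hy
    exact IntermediateField.mem_bot.mpr ⟨a, rfl⟩
  · intro E x hE
    let E' := IntermediateField.adjoin E ({x} : Set L)
    have := htow E
    have h2 : Cart k₀ E E' := fred_simple k₀ E E' ⟨x, IntermediateField.mem_adjoin_simple_self E x⟩ (by
      refine IntermediateField.map_injective E'.val ?_
      rw [IntermediateField.adjoin_map, Set.image_singleton, ← AlgHom.fieldRange_eq_map,
        IntermediateField.fieldRange_val]
      rfl)
    have : IsScalarTower k₀ K E' := IsScalarTower.of_algebraMap_eq fun c => Subtype.ext (by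
      show algebraMap k₀ L c = algebraMap K L (algebraMap k₀ K c)
      exact IsScalarTower.algebraMap_apply k₀ K L c)
    show Cart k₀ K E'
    exact hE.trans h2

end Main

section Int

/-- Change of base along `R → k₀` without differentials. -/
theorem Cart.of_subsingleton {R : Type*} {k₀ K L : Type u} [CommRing R] [CommRing k₀] [Field K] [Field L]
    [Algebra R k₀] [Algebra R K] [Algebra R L] [Algebra k₀ K] [Algebra k₀ L] [Algebra K L]
    [IsScalarTower R k₀ K] [IsScalarTower R k₀ L] [IsScalarTower R K L] [IsScalarTower k₀ K L]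
    [Subsingleton Ω[k₀⁄R]] (h : Cart k₀ K L) : Cart R K L := by
  obtain ⟨d, hd, hf⟩ := h
  have key : ∀ (B : Type u) [Field B] [Algebra R B] [Algebra k₀ B] [IsScalarTower R k₀ B],
      Function.Bijective (map R k₀ B B) := fun B _ _ _ _ => by
    refine ⟨(injective_iff_map_eq_zero _).mpr fun t ht => ?_, map_surjective R k₀ B⟩
    obtain ⟨s, rfl⟩ := (exact_mapBaseChange_map R k₀ B t).mp ht
    rw [Subsingleton.elim s 0, map_zero]
  let eL : Ω[L⁄R] ≃ₗ[L] Ω[L⁄k₀] := LinearEquiv.ofBijective (map R k₀ L L) (key L)
  let eK : (L ⊗[K] Ω[K⁄R]) ≃ₗ[L] L ⊗[K] Ω[K⁄k₀] :=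
    (LinearEquiv.ofBijective (map R k₀ K K) (key K)).baseChange K L _ _
  refine ⟨d, hd, ?_⟩
  have h1 : mapBaseChange R K L = eL.symm.toLinearMap ∘ₗ (mapBaseChange k₀ K L) ∘ₗ eK.toLinearMap := by
    refine LinearMap.ext fun t => ?_
    rw [LinearMap.comp_apply, LinearMap.comp_apply, LinearEquiv.coe_coe, LinearEquiv.coe_coe,
      LinearEquiv.eq_symm_apply]
    exact DFunLike.congr_fun (Imperfection.map_comp_mapBaseChange R k₀ K L) t
  rw [h1]
  have := ((fred_of_bijective eK.bijective).comp hf).comp (fred_of_bijective eL.symm.bijective)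
  simpa using this

theorem perfectField_bot (K : Type u) [Field K] : PerfectField (⊥ : Subfield K) := by
  obtain ⟨p, hp⟩ := ExpChar.exists K
  cases hp with
  | zero =>
    have : CharZero (⊥ : Subfield K) := inferInstance
    infer_instance
  | prime hp =>
    have : Fact p.Prime := ⟨hp⟩
    have : CharP (⊥ : Subfield K) p := inferInstance
    have : ExpChar (⊥ : Subfield K) p := ExpChar.prime hp
    have : PerfectRing (⊥ : Subfield K) p := PerfectRing.ofSurjective _ p fun a => ⟨a, by
      ext
      exact (Subfield.mem_bot_iff_pow_eq_self (F := K) (p := p)).mp a.2⟩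
    exact PerfectRing.toPerfectField _ p

theorem subsingleton_kaehler_bot (K : Type u) [Field K] :
    Subsingleton Ω[(⊥ : Subfield K)⁄ℤ] := by
  let D := KaehlerDifferential.D ℤ (⊥ : Subfield K)
  let F : Subfield K :=
  { carrier := {a | ∃ ha : a ∈ (⊥ : Subfield K), D ⟨a, ha⟩ = 0}
    zero_mem' := ⟨zero_mem _, D.map_zero⟩
    one_mem' := ⟨one_mem _, D.map_one_eq_zero⟩
    add_mem' := fun {a b} ⟨ha, ha'⟩ ⟨hb, hb'⟩ => ⟨add_mem ha hb, by
      rw [show (⟨a + b, _⟩ : (⊥ : Subfield K)) = ⟨a, ha⟩ + ⟨b, hb⟩ from rfl, map_add, ha', hb',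
        add_zero]⟩
    mul_mem' := fun {a b} ⟨ha, ha'⟩ ⟨hb, hb'⟩ => ⟨mul_mem ha hb, by
      rw [show (⟨a * b, _⟩ : (⊥ : Subfield K)) = ⟨a, ha⟩ * ⟨b, hb⟩ from rfl, D.leibniz, ha', hb',
        smul_zero, smul_zero, add_zero]⟩
    neg_mem' := fun {a} ⟨ha, ha'⟩ => ⟨neg_mem ha, by
      rw [show (⟨-a, _⟩ : (⊥ : Subfield K)) = -⟨a, ha⟩ from rfl, map_neg, ha', neg_zero]⟩
    inv_mem' := fun a ⟨ha, ha'⟩ => ⟨inv_mem ha, by
      rw [show (⟨a⁻¹, _⟩ : (⊥ : Subfield K)) = (⟨a, ha⟩ : (⊥ : Subfield K))⁻¹ from rfl,
        D.leibniz_inv, ha', smul_zero]⟩ }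
  have hF : (⊥ : Subfield K) ≤ F := bot_le
  rw [← not_nontrivial_iff_subsingleton]
  intro hn
  obtain ⟨x, hx⟩ := exists_ne (0 : Ω[(⊥ : Subfield K)⁄ℤ])
  refine hx ?_
  have hmem : x ∈ Submodule.span (⊥ : Subfield K) (Set.range D) := by
    rw [span_range_derivation]; trivial
  rw [show Submodule.span (⊥ : Subfield K) (Set.range D) = ⊥ from by
    rw [Submodule.span_eq_bot]
    rintro _ ⟨⟨a, ha⟩, rfl⟩
    exact (hF ha).2] at hmem
  simpa using hmem

/-- **Cartier equality.** -/
theorem cart_int (K L : Type u) [Field K] [Field L] [Algebra K L] [Algebra.EssFiniteType K L] :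
    Cart ℤ K L := by
  have := perfectField_bot K
  have := subsingleton_kaehler_bot K
  exact (cart_of_perfectField (⊥ : Subfield K) K L).of_subsingleton

/-- Numerical form of the Cartier equality. -/
theorem finrank_sub_finrank_eq_trdeg (K L : Type u) [Field K] [Field L] [Algebra K L]
    [Algebra.EssFiniteType K L] :
    Module.Finite L Ω[L⁄K] ∧ Module.Finite L (EGA41.imperfection ℤ K L) ∧
      (Module.finrank L Ω[L⁄K] : ℤ) - Module.finrank L (EGA41.imperfection ℤ K L) =
        Cardinal.toNat (Algebra.trdeg K L) := by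
  obtain ⟨d, hd, hk, hc, hi⟩ := cart_int K L
  let e : ((Ω[L⁄ℤ]) ⧸ (mapBaseChange ℤ K L).range) ≃ₗ[L] Ω[L⁄K] :=
    (Submodule.quotEquivOfEq _ ((map ℤ K L L).ker)
        (exact_mapBaseChange_map ℤ K L).linearMap_ker_eq.symm).trans
      (LinearMap.quotKerEquivOfSurjective _ (map_surjective ℤ K L))
  refine ⟨Module.Finite.equiv e, hk, ?_⟩
  rw [hd, Cardinal.toNat_natCast, ← e.finrank_eq]
  rw [LinearMap.index_eq_finrank_sub] at hi
  have : Module.finrank L (EGA41.imperfection ℤ K L) = Module.finrank L (mapBaseChange ℤ K L).ker := rfl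
  omega

/-- Relative form: an inequality. -/
theorem trdeg_le_finrank_sub_finrank (k K L : Type u) [Field k] [Field K] [Field L]
    [Algebra k K] [Algebra K L] [Algebra k L] [IsScalarTower k K L] [Algebra.EssFiniteType K L] :
    Module.Finite L Ω[L⁄K] ∧ Module.Finite L (EGA41.imperfection k K L) ∧
      (Cardinal.toNat (Algebra.trdeg K L) : ℤ) ≤
        (Module.finrank L Ω[L⁄K] : ℤ) - Module.finrank L (EGA41.imperfection k K L) := by
  obtain ⟨h1, h2, h3⟩ := finrank_sub_finrank_eq_trdeg K L
  let g : EGA41.imperfection ℤ K L →ₗ[L] EGA41.imperfection k K L :=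
    ((map ℤ k K K).baseChange L).restrict (p := EGA41.imperfection ℤ K L)
      (q := EGA41.imperfection k K L) fun x hx => by
      have := DFunLike.congr_fun (Imperfection.map_comp_mapBaseChange ℤ k K L) x
      simp only [LinearMap.comp_apply, LinearMap.restrictScalars_apply] at this
      rw [show mapBaseChange ℤ K L x = 0 from hx, map_zero] at this
      exact this.symm
  have hg : Function.Surjective g := fun y => by
    obtain ⟨η, h₁, h₂⟩ := Imperfection.exists_lift ℤ k K L (ω := (y : L ⊗[K] Ω[K⁄k])) y.2
    exact ⟨⟨η, h₁⟩, Subtype.ext h₂⟩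
  refine ⟨h1, Module.Finite.of_surjective g hg, ?_⟩
  have := LinearMap.finrank_le_finrank_of_surjective hg
  omega

end Int

end Groth.Agent.FieldSep.Cartier
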