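import Groth.Agent.FieldSep.Cartier
import Mathlib.RingTheory.Ideal.Cotangent
import Mathlib.RingTheory.LocalRing.ResidueField.Basic
import Mathlib.Algebra.CharP.Algebra
import Mathlib.Algebra.Field.ULift

/-!
# Differentials of local rings of characteristic `p`
-/

universe u

namespace Groth.Agent.FieldSep.LocalCart

open TensorProduct KaehlerDifferential IsLocalRing Groth.Agent.FieldSep.Cartier

/-- In characteristic `p`, square zero thickenings of fields have sections. -/
theorem exists_section (p : ℕ) [hp : Fact p.Prime] {T k : Type u} [CommRing T] [Field k] [CharP T p]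
    [CharP k p] (π : T →+* k) (hπ : Function.Surjective π) (hn : IsNilpotent (RingHom.ker π)) :
    ∃ g : k →+* T, π.comp g = RingHom.id k := by
  let k₀ := ULift.{u} (ZMod p)
  let : Algebra k₀ k := ((ZMod.castHom (dvd_refl p) k).comp ULift.ringEquiv.toRingHom).toAlgebra
  let : Algebra k₀ T := ((ZMod.castHom (dvd_refl p) T).comp ULift.ringEquiv.toRingHom).toAlgebra
  have : PerfectField k₀ := PerfectField.ofFinite
  have : Algebra.FormallySmooth k₀ k := Cartier.formallySmooth_of_perfectField k₀ k
  let π' : T →ₐ[k₀] k := AlgHom.mk π fun c => by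
    show (π.comp (ZMod.castHom (dvd_refl p) T)) (ULift.ringEquiv c) = _
    rw [Subsingleton.elim (π.comp (ZMod.castHom (dvd_refl p) T)) (ZMod.castHom (dvd_refl p) k)]
    rfl
  exact ⟨(Algebra.FormallySmooth.liftOfSurjective (AlgHom.id k₀ k) π' hπ hn).toRingHom,
    congrArg AlgHom.toRingHom (Algebra.FormallySmooth.comp_liftOfSurjective (AlgHom.id k₀ k) π' hπ hn)⟩

/-- The conormal map of a residue field in characteristic `p` is injective. -/
theorem injective_kerCotangentToTensor (p : ℕ) [hp : Fact p.Prime] {R k : Type u} [CommRing R]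
    [Field k] [Algebra R k] [CharP R p] (h : Function.Surjective (algebraMap R k)) :
    Function.Injective (kerCotangentToTensor ℤ R k) := by
  have hp0 : (p : k) = 0 := by rw [← map_natCast (algebraMap R k), CharP.cast_eq_zero, map_zero]
  have : CharP k p := (CharP.charP_iff_prime_eq_zero hp.out).mpr hp0
  let π := (IsScalarTower.toAlgHom ℤ R k).kerSquareLift
  have hπ : Function.Surjective π := Function.Surjective.of_comp (g := Ideal.Quotient.mk _) h
  have : Nontrivial (R ⧸ RingHom.ker (IsScalarTower.toAlgHom ℤ R k).toRingHom ^ 2) :=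
    hπ.nontrivial
  have : CharP (R ⧸ RingHom.ker (IsScalarTower.toAlgHom ℤ R k).toRingHom ^ 2) p :=
    (CharP.charP_iff_prime_eq_zero hp.out).mpr (by
      rw [← map_natCast (Ideal.Quotient.mk _), CharP.cast_eq_zero, map_zero])
  obtain ⟨g, hg⟩ := exists_section p π.toRingHom hπ ⟨2, by
    rw [show RingHom.ker π.toRingHom = _ from AlgHom.ker_kerSquareLift _,
      Ideal.cotangentIdeal_square]
    rfl⟩
  obtain ⟨l, hl⟩ := (retractionKerCotangentToTensorEquivSection (R := ℤ) (P := R) (S := k) h).symm
    ⟨g.toIntAlgHom, AlgHom.ext (RingHom.congr_fun hg)⟩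
  exact Function.LeftInverse.injective (g := l) (DFunLike.congr_fun hl)

/-- For a Noetherian local ring of characteristic `p`, the kernel of `k ⊗ Ω_R → Ω_k` has the
dimension of the cotangent space. -/
theorem fred_residueField (p : ℕ) [hp : Fact p.Prime] (R : Type u) [CommRing R] [IsLocalRing R]
    [IsNoetherianRing R] [CharP R p] :
    Fred (mapBaseChange ℤ R (ResidueField R)) (Module.finrank (ResidueField R) (CotangentSpace R)) := by
  set k := ResidueField R with hk
  have hsurj : Function.Surjective (algebraMap R k) := residue_surjective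
  have hex := exact_kerCotangentToTensor_mapBaseChange ℤ R k hsurj
  have hinj := injective_kerCotangentToTensor p (R := R) hsurj
  have hbs := mapBaseChange_surjective ℤ R k hsurj
  have hI : maximalIdeal R = RingHom.ker (algebraMap R k) := (IsLocalRing.ker_residue (R := R)).symm
  obtain ⟨e, -⟩ : ∃ e : CotangentSpace R ≃ₗ[R] (RingHom.ker (algebraMap R k)).Cotangent, True := by
    rw [← hI]
    exact ⟨LinearEquiv.refl _ _, trivial⟩
  let c : CotangentSpace R →ₗ[R] k ⊗[R] Ω[R⁄ℤ] := (kerCotangentToTensor ℤ R k) ∘ₗ e.toLinearMap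
  let c' : CotangentSpace R →ₗ[k] k ⊗[R] Ω[R⁄ℤ] := c.extendScalarsOfSurjective hsurj
  have hc' : Function.Injective c' := hinj.comp e.injective
  have hrange : ((mapBaseChange ℤ R k).ker : Submodule k (k ⊗[R] Ω[R⁄ℤ])) = LinearMap.range c' := by
    ext x
    rw [LinearMap.mem_ker, hex x, LinearMap.mem_range]
    constructor
    · rintro ⟨y, rfl⟩
      exact ⟨e.symm y, by show c _ = _; simp [c]⟩
    · rintro ⟨y, rfl⟩
      exact ⟨e y, rfl⟩
  let ek : CotangentSpace R ≃ₗ[k] (mapBaseChange ℤ R k).ker :=
    (LinearEquiv.ofInjective c' hc').trans (LinearEquiv.ofEq _ _ hrange.symm)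
  refine ⟨Module.Finite.equiv ek, ?_, ?_⟩
  · rw [LinearMap.range_eq_top.mpr hbs]; infer_instance
  · rw [LinearMap.index_of_surjective hbs, ek.finrank_eq]

/-- Composition along `R → S → C`. -/
theorem fred_comp {R S C : Type u} [CommRing R] [CommRing S] [Field C] [Algebra R S] [Algebra R C]
    [Algebra S C] [IsScalarTower R S C] {n m : ℤ}
    (hf : Fred ((mapBaseChange ℤ R S).baseChange C) n) (hg : Fred (mapBaseChange ℤ S C) m) :
    Fred (mapBaseChange ℤ R C) (m + n) := by
  have hsplit : mapBaseChange ℤ R C = (mapBaseChange ℤ S C) ∘ₗ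
      ((mapBaseChange ℤ R S).baseChange C) ∘ₗ
      (AlgebraTensorModule.cancelBaseChange R S C C Ω[R⁄ℤ]).symm.toLinearMap := by
    rw [← LinearMap.comp_assoc, Imperfection.mapBaseChange_comp, LinearMap.comp_assoc,
      LinearEquiv.comp_symm, LinearMap.comp_id]
  rw [hsplit]
  simpa using ((fred_of_bijective
    (AlgebraTensorModule.cancelBaseChange R S C C Ω[R⁄ℤ]).symm.bijective).comp hf).comp hg

/-- Polynomial rings: injective with free cokernel of rank the number of variables. -/
theorem fred_mvPolynomial (R : Type u) [CommRing R] (σ : Type*) [Fintype σ] (C : Type u) [Field C]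
    [Algebra R C] [Algebra (MvPolynomial σ R) C] [IsScalarTower R (MvPolynomial σ R) C] :
    Function.Injective ((mapBaseChange ℤ R (MvPolynomial σ R)).baseChange C) ∧
      Fred ((mapBaseChange ℤ R (MvPolynomial σ R)).baseChange C) (-(Fintype.card σ : ℤ)) := by
  set P := MvPolynomial σ R
  set f := mapBaseChange ℤ R P with hf
  have hex := exact_mapBaseChange_map ℤ R P
  have hsurj := map_surjective ℤ R P
  have hfinj : Function.Injective f := by
    rw [← LinearMap.ker_eq_bot, (Algebra.H1Cotangent.exact_δ_mapBaseChange ℤ R P).linearMap_ker_eq,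
      LinearMap.range_eq_bot]
    exact Subsingleton.elim _ _
  have : Module.Projective P Ω[P⁄R] := Module.Projective.of_basis (mvPolynomialBasis R σ)
  obtain ⟨s, hs⟩ := Module.projective_lifting_property (map ℤ R P P) LinearMap.id hsurj
  have htfae : (Function.Injective f ∧ ∃ s, (map ℤ R P P) ∘ₗ s = LinearMap.id) ↔
      (Function.Surjective (map ℤ R P P) ∧ ∃ l, l ∘ₗ f = LinearMap.id) :=
    hex.split_tfae'.out 0 1
  obtain ⟨l, hl⟩ := (htfae.mp ⟨hfinj, s, hs⟩).2
  have hinj : Function.Injective (f.baseChange C) := by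
    refine Function.LeftInverse.injective (g := l.baseChange C) fun x => ?_
    rw [← LinearMap.comp_apply, ← LinearMap.baseChange_comp, hl, LinearMap.baseChange_id]
    rfl
  have hq : Function.Exact (f.baseChange C) ((map ℤ R P P).baseChange C) :=
    Imperfection.exact_baseChange ℤ R P C
  have hs' : Function.Surjective ((map ℤ R P P).baseChange C) :=
    LinearMap.lTensor_surjective C hsurj
  let e2 := (Submodule.quotEquivOfEq _ _ hq.linearMap_ker_eq.symm).trans
      (LinearMap.quotKerEquivOfSurjective _ hs')
  let b := (mvPolynomialBasis R σ).baseChange C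
  have : Module.Finite C (C ⊗[P] Ω[P⁄R]) := Module.Finite.of_basis b
  refine ⟨hinj, ?_, Module.Finite.equiv e2.symm, ?_⟩
  · rw [LinearMap.ker_eq_bot.mpr hinj]; infer_instance
  · rw [LinearMap.index_of_injective hinj, e2.finrank_eq, Module.finrank_eq_card_basis b]

theorem ker_baseChange_eq_span {B C N Q : Type*} [CommRing B] [CommRing C] [Algebra B C]
    [AddCommGroup N] [Module B N] [AddCommGroup Q] [Module B Q] {ι : Type*} (v : ι → N)
    {g : N →ₗ[B] Q} (hv : g.ker = Submodule.span B (Set.range v)) (hg : Function.Surjective g) :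
    (g.baseChange C).ker = Submodule.span C (Set.range fun i => (1 : C) ⊗ₜ[B] v i) := by
  have h : Function.Exact (Finsupp.linearCombination B v) g := by
    rw [LinearMap.exact_iff, hv, Finsupp.range_linearCombination]
  have hC : Function.Exact ((Finsupp.linearCombination B v).baseChange C) (g.baseChange C) :=
    lTensor_exact C h hg
  rw [hC.linearMap_ker_eq]
  refine le_antisymm ?_ (Submodule.span_le.mpr ?_)
  · rintro _ ⟨z, rfl⟩
    induction z with
    | zero => simp
    | add a b ha hb => rw [map_add]; exact add_mem ha hb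
    | tmul c w =>
      rw [LinearMap.baseChange_tmul, Finsupp.linearCombination_apply, Finsupp.sum, tmul_sum]
      refine sum_mem fun i _ => ?_
      rw [tmul_smul, ← algebraMap_smul C, ← mul_one c, ← smul_eq_mul, ← smul_tmul', smul_smul]
      exact Submodule.smul_mem _ _ (Submodule.subset_span ⟨i, rfl⟩)
  · rintro _ ⟨i, rfl⟩
    exact ⟨1 ⊗ₜ Finsupp.single i 1, by simp⟩

/-- Quotients: the kernel is spanned by differentials of generators. -/
theorem ker_baseChange_of_surjective {P B C : Type u} [CommRing P] [CommRing B] [Field C]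
    [Algebra P B] [Algebra P C] [Algebra B C] [IsScalarTower P B C]
    (h : Function.Surjective (algebraMap P B)) {ι : Type*} (g : ι → P)
    (hg : RingHom.ker (algebraMap P B) = Ideal.span (Set.range g)) :
    LinearMap.ker (((mapBaseChange ℤ P B).baseChange C) ∘ₗ
      (AlgebraTensorModule.cancelBaseChange P B C C Ω[P⁄ℤ]).symm.toLinearMap) =
      Submodule.span C (Set.range fun i => (1 : C) ⊗ₜ[P] D ℤ P (g i)) := by
  set ψ := mapBaseChange ℤ P B
  have hex := exact_kerCotangentToTensor_mapBaseChange ℤ P B h
  set W := Submodule.span B (Set.range fun i => (1 : B) ⊗ₜ[P] D ℤ P (g i)) with hW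
  have haux : ∀ x ∈ Ideal.span (Set.range g), (1 : B) ⊗ₜ[P] D ℤ P x ∈ W := by
    intro x hx'
    induction hx' using Submodule.span_induction with
    | mem y hy => obtain ⟨i, rfl⟩ := hy; exact Submodule.subset_span ⟨i, rfl⟩
    | zero => rw [Derivation.map_zero, tmul_zero]; exact zero_mem _
    | add a b _ _ ha hb => rw [map_add, tmul_add]; exact add_mem ha hb
    | smul a y hy ha =>
      have hy0 : algebraMap P B y = 0 := by
        have : y ∈ RingHom.ker (algebraMap P B) := hg.symm ▸ hy
        exact this
      rw [smul_eq_mul, Derivation.leibniz, tmul_add, tmul_smul, tmul_smul, ← algebraMap_smul B a,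
        ← algebraMap_smul B y, hy0, zero_smul, add_zero]
      exact Submodule.smul_mem _ _ ha
  have hker : ψ.ker = W := by
    refine le_antisymm (fun t ht => ?_) (Submodule.span_le.mpr ?_)
    · obtain ⟨c, rfl⟩ := (hex t).mp ht
      obtain ⟨⟨x, hx⟩, rfl⟩ := Ideal.toCotangent_surjective _ c
      rw [kerCotangentToTensor_toCotangent]
      exact haux x (hg ▸ hx)
    · rintro _ ⟨i, rfl⟩
      exact (hex _).mpr ⟨Ideal.toCotangent _ ⟨g i, hg.symm ▸ Ideal.subset_span ⟨i, rfl⟩⟩,
        kerCotangentToTensor_toCotangent ..⟩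
  rw [LinearMap.ker_comp, ker_baseChange_eq_span (C := C) _ hker (mapBaseChange_surjective ℤ P B h),
    Submodule.comap_equiv_eq_map_symm, Submodule.map_span, ← Set.range_comp]
  congr 2
  funext i
  simp [AlgebraTensorModule.cancelBaseChange_tmul]

end Groth.Agent.FieldSep.LocalCart
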