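import Mathlib.RingTheory.Smooth.Field
import Mathlib.RingTheory.Etale.Kaehler
import Mathlib.RingTheory.Kaehler.Polynomial
import Mathlib.RingTheory.AlgebraicIndependent.TranscendenceBasis
import Mathlib.RingTheory.Localization.Basic
import Mathlib.FieldTheory.Perfect

/-!
# Differentials of separably generated field extensions
-/

universe u

namespace Groth.Agent.FieldSep.SepGen

open KaehlerDifferential

open scoped IntermediateField.algebraAdjoinAdjoin in
/-- The differentials of a separating transcendence basis form a basis. -/
theorem exists_basis {K L : Type u} [Field K] [Field L] [Algebra K L] {ι : Type u} {v : ι → L}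
    (hv : AlgebraicIndependent K v)
    [Algebra.IsSeparable (IntermediateField.adjoin K (Set.range v)) L] :
    ∃ b : Module.Basis ι L (Ω[L⁄K]), ∀ i, b i = D K L (v i) := by
  let P := MvPolynomial ι K
  let A0 := Algebra.adjoin K (Set.range v)
  let F := IntermediateField.adjoin K (Set.range v)
  let e : P ≃ₐ[K] A0 := hv.aevalEquiv
  let i1 : P →+* F := (algebraMap A0 F).comp e.toRingEquiv.toRingHom
  let _ : Algebra P F := i1.toAlgebra
  let _ : Algebra P L := (MvPolynomial.aeval v).toRingHom.toAlgebra
  have hPL : ∀ q : P, (algebraMap F L) (algebraMap P F q) = algebraMap P L q := fun q => by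
    show ((e q : A0) : L) = MvPolynomial.aeval v q
    exact hv.algebraMap_aevalEquiv q
  have : IsScalarTower P F L := .of_algebraMap_eq fun q => (hPL q).symm
  have : IsScalarTower K P L := .of_algebraMap_eq fun r => by
    show algebraMap K L r = MvPolynomial.aeval v (algebraMap K P r)
    rw [AlgHom.commutes]
  have hloc : IsLocalization (nonZeroDivisors P) F := by
    have h := IsLocalization.isLocalization_of_base_ringEquiv (nonZeroDivisors A0) F e.toRingEquiv.symm
    have hmap : (nonZeroDivisors A0).map e.toRingEquiv.symm.toMonoidHom = nonZeroDivisors P :=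
      MulEquivClass.map_nonZeroDivisors e.toRingEquiv.symm
    rw [← hmap]
    exact h
  have : Algebra.FormallyEtale P F := .of_isLocalization (nonZeroDivisors P)
  have : Algebra.FormallyEtale F L := Algebra.FormallyEtale.of_isSeparable F L
  have : Algebra.FormallyEtale P L := .comp P F L
  refine ⟨((mvPolynomialBasis K ι).baseChange L).map
    (tensorKaehlerEquivOfFormallyEtale K P L), fun i => ?_⟩
  rw [Module.Basis.map_apply, Module.Basis.baseChange_apply, mvPolynomialBasis_apply,
    tensorKaehlerEquivOfFormallyEtale_apply, mapBaseChange_tmul, one_smul, map_D]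
  exact congrArg (D K L) (MvPolynomial.aeval_X v i)

/-- In characteristic zero every transcendence basis gives a basis of differentials. -/
theorem exists_basis_of_charZero {K L : Type u} [Field K] [CharZero K] [Field L] [Algebra K L]
    {ι : Type u} {v : ι → L} (hv : IsTranscendenceBasis K v) :
    ∃ b : Module.Basis ι L (Ω[L⁄K]), ∀ i, b i = D K L (v i) := by
  have : Algebra.IsAlgebraic (IntermediateField.adjoin K (Set.range v)) L := hv.isAlgebraic_field
  have : CharZero (IntermediateField.adjoin K (Set.range v)) :=
    charZero_of_injective_algebraMap (FaithfulSMul.algebraMap_injective K _)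
  have : Algebra.IsSeparable (IntermediateField.adjoin K (Set.range v)) L := inferInstance
  exact exists_basis hv.1

end Groth.Agent.FieldSep.SepGen
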